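import Cfsg.Agent.H55.S3232.Centre
import Cfsg.Agent.H38.Fi22C.NonConj
import Cfsg.Agent.H39.Fi22C.Basic

/-!
Without swap: the Sylow subgroup of the involution centraliser is one of the group, the three
central involutions of the core are pairwise not conjugate, and their conjugates avoid the core.
-/

set_option autoImplicit false
set_option linter.unusedSectionVars false

namespace H55.Fi22C

open H38.U6C H2.U6E H39.Fi22C
open H38.Fi22C (InW)

universe u v

variable {G : Type u} [Group G] [Finite G] {F : Type v} [Field F] [Fintype F] {z a : G}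
  {J H₀ : Subgroup G} {π : ↥H₀ →* Cfsg.PSp 2 F} {φ : G → V}
  {ρ : ↥(Subgroup.centralizer ({z} : Set G)) →* Equiv.Perm V}

/-- One of the three central involutions of the core. -/
def Typ (z a p : G) : Prop := p = z ∨ p = a ∨ p = a * z

theorem mem_cent {g z : G} (h : Commute g z) : g ∈ Subgroup.centralizer ({z} : Set G) :=
  Subgroup.mem_centralizer_singleton_iff.2 h.eq

theorem cent_comm {g z : G} (h : g ∈ Subgroup.centralizer ({z} : Set G)) : Commute g z :=
  Subgroup.mem_centralizer_singleton_iff.1 h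

theorem conj_eq_of_commute {g p : G} (h : Commute g p) : g * p * g⁻¹ = p :=
  mul_inv_eq_iff_eq_mul.2 h.eq

theorem commute_of_conj_eq {g p : G} (h : g * p * g⁻¹ = p) : Commute g p :=
  mul_inv_eq_iff_eq_mul.1 h

/-- The standing hypotheses of the case without swap. -/
structure Hyp (z a : G) (J H₀ : Subgroup G) (π : ↥H₀ →* Cfsg.PSp 2 F) (φ : G → V)
    (ρ : ↥(Subgroup.centralizer ({z} : Set G)) →* Equiv.Perm V) : Prop where
  setup : Setup3 z a J H₀ π
  nat : NatJ z a J H₀ φ ρ
  noswap : NoSwap z a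

namespace Hyp

variable (h : Hyp z a J H₀ π φ ρ)
include h

theorem za : Commute z a := (H38.Fi22C.za_comm h.setup)

theorem J_cent {j : G} (hj : j ∈ J) : Commute j z := cent_comm (h.nat.toCore.le_cent hj)

theorem inW_comm {p g : G} (hp : InW z a p) (hg : Commute g z) : Commute g p := by
  have ha : Commute g a := h.noswap g (mem_cent hg)
  rcases hp with rfl | rfl | rfl | rfl
  exacts [Commute.one_right g, hg, ha, ha.mul_right hg]

theorem typ_inW {p : G} (hp : Typ z a p) : InW z a p := Or.inr hp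

theorem typ_mem {p : G} (hp : Typ z a p) : p ∈ J := H38.Fi22C.inW_mem h.setup (h.typ_inW hp)

theorem typ_ne_one {p : G} (hp : Typ z a p) : p ≠ 1 := by
  rcases hp with rfl | rfl | rfl
  exacts [h.setup.ne_one, h.setup.a_out.1, fun e => h.setup.a_out.2 (by
    rw [eq_inv_of_mul_eq_one_left e, inv_eq_of_mul_eq_one_right h.setup.sq])]

theorem typ_sq {p : G} (hp : Typ z a p) : p * p = 1 := by
  rcases hp with rfl | rfl | rfl
  exacts [h.setup.sq, h.setup.a_sq, by
    rw [mul_assoc, ← mul_assoc z, h.za.eq, mul_assoc a, h.setup.sq, mul_one, h.setup.a_sq]]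

theorem typ_mul {p q : G} (hp : Typ z a p) (hq : Typ z a q) (hne : p ≠ q) :
    Typ z a (p * q) := by
  rcases H38.Fi22C.inW_mul h.setup (h.typ_inW hp) (h.typ_inW hq) with e | e
  · exact absurd ((eq_inv_of_mul_eq_one_left e).trans (inv_eq_of_mul_eq_one_right (h.typ_sq hq))) hne
  · exact e

/-- The subgroup of the centre of the core. -/
def zSub : Subgroup G where
  carrier := {p | InW z a p}
  one_mem' := Or.inl rfl
  mul_mem' := H38.Fi22C.inW_mul h.setup
  inv_mem' := H38.Fi22C.inW_inv h.setup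

theorem coreZ : S3232.CoreZ z h.zSub J where
  le_cent := fun _ hj => h.J_cent hj
  Z_le := fun _ hp => H38.Fi22C.inW_mem h.setup hp
  z_mem := Or.inr (Or.inl rfl)
  z_ne_one := h.setup.ne_one
  sq_Z := fun p hp => hp.elim (fun e => by rw [e, one_mul]) h.typ_sq
  comm := h.setup.comm_mem
  sq_cases := h.setup.sq_mem
  cent_Z := fun p hp j hj => (h.inW_comm hp (h.J_cent hj)).symm
  center := h.setup.center
  conj_mem := fun g hg => h.setup.conj_mem g (mem_cent hg)
  maximal := fun g hg htriv => by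
    refine (h.nat.toCore.ρ_ker ⟨g, mem_cent hg⟩).1 (Equiv.ext fun v => ?_)
    obtain ⟨j, hj, rfl⟩ := h.nat.toCore.φ_surj v
    have hm := h.setup.conj_mem g (mem_cent hg) j hj
    have hd := htriv j hj
    rw [← h.nat.toCore.ρ_φ ⟨g, mem_cent hg⟩ j hj,
      show g * j * g⁻¹ = j * (j⁻¹ * (g * j * g⁻¹)) by group,
      h.nat.toCore.φ_mul j hj _ (mul_mem (inv_mem hj) hm),
      (h.nat.toCore.φ_ker _ (mul_mem (inv_mem hj) hm)).2 hd, H50.U6C.vadd_zero']
    rfl

theorem typ_of_comm_J {g : G} (hg : Commute g z) (hc : ∀ j ∈ J, Commute g j) : InW z a g :=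
  h.setup.center g (h.setup.self_cent g (mem_cent hg) hc) hc

/-- A Sylow 2-subgroup of the group inside the centraliser of `z`. -/
theorem exists_sylow : ∃ P : Sylow 2 G, ∀ p ∈ P, Commute p z := by
  haveI : Fact (Nat.Prime 2) := ⟨Nat.prime_two⟩
  set C := Subgroup.centralizer ({z} : Set G) with hC
  haveI : (J.comap C.subtype).Normal := ⟨fun n hn g => h.setup.conj_mem g g.2 n hn⟩
  obtain ⟨S⟩ := (inferInstance : Nonempty (Sylow 2 C))
  have hJS : J.subgroupOf C ≤ S := ((H38.Fi22C.isPGroup_J h.setup).comap_of_injective C.subtype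
    (Subgroup.subtype_injective _)).le_sylow_of_normal S
  set T := (S : Subgroup C).map C.subtype with hT
  obtain ⟨P, hP⟩ := (S.2.map C.subtype).exists_le_sylow (G := G)
  refine ⟨P, ?_⟩
  have hJT : J ≤ T := fun j hj =>
    ⟨⟨j, mem_cent (h.J_cent hj)⟩, hJS hj, rfl⟩
  have hTC : ∀ t ∈ T, Commute t z := by
    rintro _ ⟨t, -, rfl⟩
    exact cent_comm t.2
  suffices hPT : (P : Subgroup G) ≤ T from fun p hp => hTC p (hPT hp)
  by_contra hle
  have hnil : Group.IsNilpotent P := P.2.isNilpotent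
  have hlt : T.subgroupOf P < ⊤ := lt_top_iff_ne_top.2 fun e =>
    hle (Subgroup.subgroupOf_eq_top.1 e)
  obtain ⟨n, hn', hnot⟩ := SetLike.exists_of_lt
    (Group.normalizerCondition_of_isNilpotent (G := ↥(P : Subgroup G)) _ hlt)
  rw [Subgroup.mem_normalizer_iff] at hn'
  have hfix : Commute (n : G) z := by
    refine commute_of_conj_eq ?_
    have hzT : z ∈ T := hJT h.setup.z_mem
    have hm : (n : G) * z * (n : G)⁻¹ ∈ T := (hn' ⟨z, hP hzT⟩).1 hzT
    have hcomm : ∀ t ∈ T, Commute ((n : G) * z * (n : G)⁻¹) t := by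
      intro t ht
      have ht' : (n : G)⁻¹ * t * n ∈ T := by
        have := hn' (n⁻¹ * ⟨t, hP ht⟩ * n)
        refine this.2 ?_
        show (n : G) * ((n : G)⁻¹ * t * n) * (n : G)⁻¹ ∈ T
        simpa [mul_assoc] using ht
      show (n : G) * z * (n : G)⁻¹ * t = t * ((n : G) * z * (n : G)⁻¹)
      calc (n : G) * z * (n : G)⁻¹ * t = n * (z * ((n : G)⁻¹ * t * n)) * (n : G)⁻¹ := by group
        _ = n * ((n : G)⁻¹ * t * n * z) * (n : G)⁻¹ := by rw [(hTC _ ht').eq]
        _ = t * ((n : G) * z * (n : G)⁻¹) := by group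
    rcases h.typ_of_comm_J (hTC _ hm) fun j hj => hcomm j (hJT hj) with e | e | e | e
    · exact absurd (conj_eq_one_iff.1 e) h.setup.ne_one
    · exact e
    · exact absurd e (H38.Fi22C.not_conj_za h.setup _)
    · exact absurd e (H38.Fi22C.not_conj_zaz h.setup _)
  refine hnot ?_
  show (n : G) ∈ T
  have hmax : ∀ x : C, (x : G) ∈ P → x ∈ S := by
    have hle' : (S : Subgroup C) ≤ (P : Subgroup G).subgroupOf C := fun x hx => hP ⟨x, hx, rfl⟩
    have heq := S.is_maximal' (P.2.comap_of_injective C.subtype (Subgroup.subtype_injective _)) hle'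
    intro x hx
    have : x ∈ (P : Subgroup G).subgroupOf C := hx
    have h' : x ∈ (P : Subgroup G).comap C.subtype := this
    rw [heq] at h'
    exact h'
  exact ⟨⟨n, mem_cent hfix⟩, hmax _ n.2, rfl⟩

/-- Conjugate central involutions of the core are equal. -/
theorem typ_conj {p q k : G} (hp : Typ z a p) (hq : Typ z a q) (hk : k * p * k⁻¹ = q) : p = q := by
  have hzq : ∀ g, g * z * g⁻¹ = q → z = q := fun g hg => by
    rcases hq with rfl | rfl | rfl
    exacts [rfl, absurd hg (H38.Fi22C.not_conj_za h.setup g),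
      absurd hg (H38.Fi22C.not_conj_zaz h.setup g)]
  by_contra hne
  rcases hp with rfl | hp
  · exact hne (hzq k hk)
  rcases hq with rfl | hq
  · have e : k⁻¹ * q * k⁻¹⁻¹ = p := by rw [← hk]; group
    rcases hp with rfl | rfl
    exacts [H38.Fi22C.not_conj_za h.setup _ e, H38.Fi22C.not_conj_zaz h.setup _ e]
  -- two conjugate elements centralising a Sylow subgroup are conjugate in its normaliser
  haveI : Fact (Nat.Prime 2) := ⟨Nat.prime_two⟩
  obtain ⟨P, hP⟩ := h.exists_sylow
  have hpP : (P : Subgroup G) ≤ Subgroup.centralizer ({q} : Set G) := fun x hx =>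
    mem_cent (h.inW_comm (Or.inr (Or.inr hq)) (hP x hx))
  have hkP : ((k • P : Sylow 2 G) : Subgroup G) ≤ Subgroup.centralizer ({q} : Set G) := by
    rintro x ⟨y, hy, rfl⟩
    refine mem_cent ?_
    have hc := h.inW_comm (Or.inr (Or.inr hp)) (hP y hy)
    show k * y * k⁻¹ * q = q * (k * y * k⁻¹)
    rw [← hk]
    calc k * y * k⁻¹ * (k * p * k⁻¹) = k * (y * p) * k⁻¹ := by group
      _ = k * (p * y) * k⁻¹ := by rw [hc.eq]
      _ = k * p * k⁻¹ * (k * y * k⁻¹) := by group
  obtain ⟨m, hm⟩ := MulAction.exists_smul_eq ↥(Subgroup.centralizer ({q} : Set G))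
    ((k • P).subtype hkP) (P.subtype hpP)
  have hnorm : ∀ x ∈ P, ((m : G) * k) * x * ((m : G) * k)⁻¹ ∈ P := by
    intro x hx
    have hx' : k * x * k⁻¹ ∈ (k • P : Sylow 2 G) := ⟨x, hx, rfl⟩
    have h2 : m * ⟨k * x * k⁻¹, hkP hx'⟩ * m⁻¹ ∈ P.subtype hpP := by
      rw [← hm]
      exact ⟨⟨k * x * k⁻¹, hkP hx'⟩, hx', rfl⟩
    have h3 : (m : G) * (k * x * k⁻¹) * (m : G)⁻¹ ∈ P := h2
    convert h3 using 1
    group
  set n := (m : G) * k with hn
  have hJP : J ≤ P := by
    have hzJ : ∀ j ∈ J, ∀ x ∈ P, x * j * x⁻¹ ∈ J := fun j hj x hx =>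
      h.setup.conj_mem x (mem_cent (hP x hx)) j hj
    intro j hj
    set C := Subgroup.centralizer ({z} : Set G)
    have hPC : (P : Subgroup G) ≤ C := fun x hx => mem_cent (hP x hx)
    haveI : (J.comap C.subtype).Normal := ⟨fun n hn g => h.setup.conj_mem g g.2 n hn⟩
    exact ((H38.Fi22C.isPGroup_J h.setup).comap_of_injective C.subtype
      (Subgroup.subtype_injective _)).le_sylow_of_normal (P.subtype hPC)
      (show (⟨j, mem_cent (h.J_cent hj)⟩ : C) ∈ J.subgroupOf C from hj)
  have hback : ∀ y ∈ P, ∃ x ∈ P, n * x * n⁻¹ = y := by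
    intro y hy
    let f : ↥(P : Subgroup G) → ↥(P : Subgroup G) := fun x => ⟨n * x * n⁻¹, hnorm x x.2⟩
    have hf : Function.Injective f := fun x x' e =>
      Subtype.ext (mul_left_cancel (mul_right_cancel (congrArg Subtype.val e :)))
    obtain ⟨x, hx⟩ := Finite.surjective_of_injective hf ⟨y, hy⟩
    exact ⟨x, x.2, congrArg Subtype.val hx⟩
  have hnz : Commute n z := by
    refine commute_of_conj_eq ?_
    have hcomm : ∀ t ∈ P, Commute (n * z * n⁻¹) t := by
      intro t ht
      obtain ⟨x, hx, rfl⟩ := hback t ht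
      show n * z * n⁻¹ * (n * x * n⁻¹) = n * x * n⁻¹ * (n * z * n⁻¹)
      calc n * z * n⁻¹ * (n * x * n⁻¹) = n * (z * x) * n⁻¹ := by group
        _ = n * (x * z) * n⁻¹ := by rw [(hP x hx).eq]
        _ = n * x * n⁻¹ * (n * z * n⁻¹) := by group
    have hm' : Commute (n * z * n⁻¹) z := hP _ (hnorm z (hJP h.setup.z_mem))
    rcases h.typ_of_comm_J hm' fun j hj => hcomm j (hJP hj) with e | e | e | e
    · exact absurd (conj_eq_one_iff.1 e) h.setup.ne_one
    · exact e
    · exact absurd e (H38.Fi22C.not_conj_za h.setup _)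
    · exact absurd e (H38.Fi22C.not_conj_zaz h.setup _)
  have h1 : n * p * n⁻¹ = p := conj_eq_of_commute (h.inW_comm (Or.inr (Or.inr hp)) hnz)
  have h2 : n * p * n⁻¹ = q := by
    rw [hn, show (m : G) * k * p * ((m : G) * k)⁻¹ = m * (k * p * k⁻¹) * (m : G)⁻¹ by group, hk]
    exact conj_eq_of_commute (cent_comm m.2)
  exact hne (h1.symm.trans h2)

/-- A 2-group centralising a conjugate of a central involution centralises conjugates of all three. -/
theorem exists_centre {x p k : G} (hp : Typ z a p) (hk : k * p * k⁻¹ = x) {R : Subgroup G}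
    (hR : IsPGroup 2 R) (hRx : ∀ r ∈ R, Commute r x) :
    ∃ k', k' * p * k'⁻¹ = x ∧ ∀ q, Typ z a q → ∀ r ∈ R, Commute (k' * q * k'⁻¹) r := by
  haveI : Fact (Nat.Prime 2) := ⟨Nat.prime_two⟩
  obtain ⟨P, hP⟩ := h.exists_sylow
  have hle : (P : Subgroup G) ≤ Subgroup.centralizer ({p} : Set G) := fun x hx =>
    mem_cent (h.inW_comm (h.typ_inW hp) (hP x hx))
  obtain ⟨k', hk', hin⟩ := S3232.exists_conj_into hk (P.subtype hle) hR hRx
  refine ⟨k', hk', fun q hq r hr => ?_⟩
  obtain ⟨s, hs, hse⟩ := hin r hr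
  have h1 : Commute q (k'⁻¹ * r * k') := by
    rw [← hse]
    exact (h.inW_comm (h.typ_inW hq) (hP _ hs)).symm
  show k' * q * k'⁻¹ * r = r * (k' * q * k'⁻¹)
  calc k' * q * k'⁻¹ * r = k' * (q * (k'⁻¹ * r * k')) * k'⁻¹ := by group
    _ = k' * ((k'⁻¹ * r * k') * q) * k'⁻¹ := by rw [h1.eq]
    _ = r * (k' * q * k'⁻¹) := by group

/-- An element centralising a conjugate of `z` centralises the centre moved with it. -/
theorem centre_unique {k g q : G} (hg : Commute g (k * z * k⁻¹)) (hq : InW z a q) :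
    Commute g (k * q * k⁻¹) := by
  have h1 : Commute (k⁻¹ * g * k) z := by
    show k⁻¹ * g * k * z = z * (k⁻¹ * g * k)
    calc k⁻¹ * g * k * z = k⁻¹ * (g * (k * z * k⁻¹)) * k := by group
      _ = k⁻¹ * ((k * z * k⁻¹) * g) * k := by rw [hg.eq]
      _ = z * (k⁻¹ * g * k) := by group
  have h2 := (h.inW_comm hq h1).eq
  show g * (k * q * k⁻¹) = k * q * k⁻¹ * g
  calc g * (k * q * k⁻¹) = k * (k⁻¹ * g * k * q) * k⁻¹ := by group
    _ = k * (q * (k⁻¹ * g * k)) * k⁻¹ := by rw [h2]
    _ = k * q * k⁻¹ * g := by group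

/-- The centre moved with a conjugate of `z` depends on the conjugate only. -/
theorem centre_eq {k k' q : G} (he : k * z * k⁻¹ = k' * z * k'⁻¹) (hq : InW z a q) :
    k * q * k⁻¹ = k' * q * k'⁻¹ := by
  have h1 : Commute (k'⁻¹ * k) z := by
    refine commute_of_conj_eq ?_
    calc k'⁻¹ * k * z * (k'⁻¹ * k)⁻¹ = k'⁻¹ * (k * z * k⁻¹) * k' := by group
      _ = z := by rw [he]; group
  calc k * q * k⁻¹ = k' * ((k'⁻¹ * k) * q * (k'⁻¹ * k)⁻¹) * k'⁻¹ := by group
    _ = k' * q * k'⁻¹ := by rw [conj_eq_of_commute (h.inW_comm hq h1)]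

/-- No element of the core outside its centre is conjugate to one of the central involutions, if
`z` is weakly closed in the core with respect to the centralisers of `a` and `az`. -/
theorem core_mem (hw : ∀ e, (e = a ∨ e = a * z) → ∀ k, Commute k e → k * z * k⁻¹ ∈ J →
    k * z * k⁻¹ = z) {x p k : G} (hp : Typ z a p) (hk : k * p * k⁻¹ = x) (hx : x ∈ J) :
    InW z a x := by
  by_contra hxZ
  have hxx : x * x = 1 := by
    rw [← hk, show k * p * k⁻¹ * (k * p * k⁻¹) = k * (p * p) * k⁻¹ by group, h.typ_sq hp]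
    group
  obtain ⟨k', hk', hcen⟩ := h.exists_centre hp hk
    (R := J ⊓ Subgroup.centralizer ({x} : Set G))
    ((H38.Fi22C.isPGroup_J h.setup).to_le inf_le_left) fun r hr => cent_comm hr.2
  have hmem : ∀ q, Typ z a q → k' * q * k'⁻¹ ∈ h.zSub ∨ k' * q * k'⁻¹ * x ∈ h.zSub :=
    fun q hq => h.coreZ.mem_of_commute hx hxZ hxx fun e he hex =>
      hcen q hq e ⟨he, mem_cent hex⟩
  obtain ⟨q, hq, hqp, hqZ⟩ : ∃ q, Typ z a q ∧ q ≠ p ∧ InW z a (k' * q * k'⁻¹) := by
    obtain ⟨q, hq, hne⟩ : ∃ q, Typ z a q ∧ q ≠ p := by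
      by_cases e : z = p
      · exact ⟨a, Or.inr (Or.inl rfl), fun e' => h.setup.a_out.2 (e'.trans e.symm)⟩
      · exact ⟨z, Or.inl rfl, e⟩
    rcases hmem q hq with e | e
    · exact ⟨q, hq, hne, e⟩
    · refine ⟨q * p, h.typ_mul hq hp hne, fun e' => h.typ_ne_one hq (mul_eq_right.1 e'), ?_⟩
      have e' : InW z a (k' * q * k'⁻¹ * x) := e
      rw [show k' * (q * p) * k'⁻¹ = k' * q * k'⁻¹ * (k' * p * k'⁻¹) by group, hk']
      exact e'
  have hqq : k' * q * k'⁻¹ = q := by
    rcases hqZ with e | e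
    · exact absurd (conj_eq_one_iff.1 e) (h.typ_ne_one hq)
    · have h1 := h.typ_conj hq e rfl
      exact h1.symm
  have hkz : Commute k' z := by
    rcases hq with rfl | hq'
    · exact commute_of_conj_eq hqq
    · refine commute_of_conj_eq (hw q hq' k' (commute_of_conj_eq hqq) ?_)
      rcases hmem z (Or.inl rfl) with e | e
      · exact h.coreZ.Z_le e
      · have := J.mul_mem (h.coreZ.Z_le e) hx
        rwa [mul_assoc, hxx, mul_one] at this
  refine hxZ ?_
  rw [← hk', conj_eq_of_commute (h.inW_comm (h.typ_inW hp) hkz)]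
  exact h.typ_inW hp

end Hyp

end H55.Fi22C
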