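import Cfsg.Agent.H55.Fi22C.Words
import Cfsg.Agent.H55.U6C.NatWcj
import Cfsg.Agent.H39.Fi22C.Basic

/-!
The involutions of the unitary group on the model: transvections and the involutions fixing a line.
-/

set_option autoImplicit false
set_option maxRecDepth 100000

namespace H55.Fi22C

open H38.U6C H50.U6C H2.U6E
open H55.U6C (v0 runW wordOf runW_eq word_ok)

/-- The second point of the base line. -/
def u₀ : V := 5

/-- The word moving `v` to `u₀` with `v₀` fixed up to a scalar. -/
def word2 (v : V) : List (Fin 45) := secondList.getD v.val []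

/-- The first coefficient pair of an element fixing the base line. -/
def m11 (k : Fin 16) : ℕ := k.val % 2

/-- The second diagonal coefficient. -/
def m22 (k : Fin 16) : ℕ := k.val / 2 % 2

/-- The coefficient off the diagonal. -/
def m12 (k : Fin 16) : ℕ := k.val / 4

/-- The map fixing the base line pointwise with the hermitian coefficients `k`. -/
def mFun (k : Fin 16) (a : V) : V :=
  vadd (vadd a (smul4 (Nat.xor (fmul (m11 k) (herm v0 a)) (fmul (m12 k) (herm u₀ a))) v0))
    (smul4 (Nat.xor (fmul (fconj (m12 k)) (herm v0 a)) (fmul (m22 k) (herm u₀ a))) u₀)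

/-- The coefficients have rank two. -/
def rk2 (k : Fin 16) : Bool := ((m11 k * m22 k == 1) != (m12 k != 0))

/-- The word of an element of order three commuting with the map `k`. -/
def thW (k : Fin 16) : List (Fin 45) := thetaList.getD k.val []

/-- Fourth power of the word. -/
def th4 (k : Fin 16) : List (Fin 45) := thW k ++ thW k ++ thW k ++ thW k

theorem pnt_zero : pnt 0 = v0 := by decide +kernel

theorem word2_ok : ∀ v : V, herm v0 v = 0 → qv v = false → (∃ c : Fin 4, v = smul4 c v0) ∨
    ((∃ c : Fin 4, c.val ≠ 0 ∧ runW (word2 v) v0 = smul4 c v0) ∧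
      ∃ c : Fin 4, c.val ≠ 0 ∧ runW (word2 v) v = smul4 c u₀) := by decide +kernel

/-- An image of the complementary vector of the first point under an isometry fixing its
perpendicular. -/
theorem perp_image : ∀ w : V, qv w = true →
    (∀ v : V, herm v0 v = 0 → herm v w = herm v 16) → w = 16 ∨ w = tvFun 0 16 := by decide +kernel

theorem line_image : ∀ p : V, qv p = true ∧ herm v0 p = herm v0 16 ∧ herm u₀ p = herm u₀ 16 →
    ∀ q : V, qv q = true ∧ herm v0 q = herm v0 1 ∧ herm u₀ q = herm u₀ 1 →
      herm p q = herm (16 : V) 1 → ∃ k, mFun k 16 = p ∧ mFun k 1 = q := by decide +kernel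

theorem line_basis : ∀ v : V, ∃ s t : Fin 4,
    v = vadd (vadd (smul4 s v0) (smul4 t u₀))
      (vadd (smul4 (herm v0 v) 16) (smul4 (herm u₀ v) 1)) ∧
    ∀ k, mFun k v = vadd (vadd (smul4 s v0) (smul4 t u₀))
      (vadd (smul4 (herm v0 v) (mFun k 16)) (smul4 (herm u₀ v) (mFun k 1))) := by decide +kernel

theorem mFun_rk2 : ∀ k, (∃ a, vadd a (mFun k a) = v0) → (∃ b, vadd b (mFun k b) = u₀) →
    rk2 k = true := by decide +kernel

theorem mFun_fix : ∀ k, rk2 k = true → ∀ a, mFun k a = a →
    ∃ c d : Fin 4, a = vadd (smul4 c v0) (smul4 d u₀) := by decide +kernel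

theorem mFun_fix_card : ∀ k, rk2 k = true →
    (Finset.univ.filter fun a : V => mFun k a = a).card = 16 := by decide +kernel

theorem mFun_range : ∀ k, rk2 k = true →
    (∃ b, vadd b (mFun k b) = v0) ∧ ∃ b, vadd b (mFun k b) = u₀ := by decide +kernel

/-- The coefficients of a product. -/
def kAdd (k s : Fin 16) : Fin 16 := ⟨Nat.xor k.val s.val % 16, Nat.mod_lt _ (by norm_num)⟩

theorem mFun_comp : ∀ k s : Fin 16, mFun k (mFun s 16) = mFun (kAdd k s) 16 ∧
    mFun k (mFun s 1) = mFun (kAdd k s) 1 := by decide +kernel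

theorem theta_comm : ∀ k, rk2 k = true → ∀ a,
    runW (thW k) (mFun k a) = mFun k (runW (thW k) a) := by decide +kernel

theorem theta_move : ∀ k s : Fin 16, rk2 k = true → rk2 s = true → k ≠ s →
    rk2 (kAdd k s) = true →
    runW (th4 k) (mFun s 16) ≠ mFun s (runW (th4 k) 16) ∨
      runW (th4 k) (mFun s 1) ≠ mFun s (runW (th4 k) 1) := by decide +kernel

theorem pnt_perp : ∀ v : V, (∀ u : V, herm v0 u = 0 → pol v u = false) →
    ∃ c : Fin 4, v = smul4 c v0 := by decide +kernel

theorem omega_perp : ∃ w : List (Fin 45), (∀ a, runW w (tvFun 0 a) = tvFun 0 (runW w a)) ∧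
    ∀ v : V, herm v0 v = 0 → ∃ c : Fin 4,
      vadd (vadd v (runW w v)) (runW w (runW w v)) = smul4 c v0 := by
  refine ⟨[15, 25], ?_, ?_⟩ <;> decide +kernel

end H55.Fi22C
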