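import Cfsg.Agent.H55.Fi22C.Cert
import Cfsg.Agent.H39.U6E.Lift
import Cfsg.Agent.H2.U6E.Semi

/-!
Normal forms of the linear involutions on the model.
-/

set_option autoImplicit false
set_option maxRecDepth 100000

namespace H55.Fi22C

open H38.U6C H2.U6E
open H55.U6C (v0 runW wordOf runW_eq word_ok)
open H50.U6C (isom vadd_assoc vadd_comm vadd_self vadd_zero' isom_herm isom_smul isom_pol
  smul4_smul4 smul4_one smul4_zero_left herm_lt tv_apply tv_mem_isom uGroup_le_isom herm_vadd_right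
  herm_vadd_left herm_smul_right herm_smul_left smul4_vadd herm_conj omegaPerm)

theorem zero_vadd (a : V) : vadd 0 a = a := by rw [vadd_comm, vadd_zero']

theorem vadd_vadd_self (p q : V) : vadd (vadd p q) q = p := by
  rw [vadd_assoc, vadd_self, vadd_zero']

theorem eq_of_vadd_eq_zero {p q : V} (h : vadd p q = 0) : p = q := by
  rw [← vadd_vadd_self p q, h, zero_vadd]

/-- A word as a permutation. -/
def wPerm (ws : List (Fin 45)) : Equiv.Perm V := (ws.reverse.map tv).prod

theorem wPerm_apply (ws : List (Fin 45)) (x : V) : wPerm ws x = runW ws x := (runW_eq ws x).symm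

theorem wPerm_mem (ws : List (Fin 45)) : wPerm ws ∈ uGroup :=
  Subgroup.list_prod_mem _ fun y hy => by
    obtain ⟨i, -, rfl⟩ := List.mem_map.1 hy
    exact Subgroup.subset_closure ⟨i, rfl⟩

theorem wPerm_isom (ws : List (Fin 45)) : wPerm ws ∈ isom := uGroup_le_isom (wPerm_mem ws)

theorem isom_zero {r : Equiv.Perm V} (hr : r ∈ isom) : r 0 = 0 := by
  have := isom_smul hr (c := 0) (by norm_num) 0
  rwa [smul4_zero_left, smul4_zero_left] at this

theorem herm_sym {a b : V} (h : herm a b = herm b a) : pol a b = false := by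
  rw [herm_conj a b] at h
  exact (show ∀ x < 4, x = fconj x → decide (2 ≤ x) = false by decide) _ (herm_lt a b) h

/-- The commutators of a linear involution are singular. -/
theorem qv_invol {t : Equiv.Perm V} (ht : t ∈ isom) (hi : ∀ a, t (t a) = a) (a : V) :
    qv (vadd a (t a)) = false := by
  rw [H50.U6C.qv_vadd, ht.2.2]
  have : herm a (t a) = herm (t a) a := by
    conv_lhs => rw [← isom_herm ht, hi]
  rw [herm_sym this]
  simp

theorem invol_fix {t : Equiv.Perm V} (ht : t ∈ isom) (hi : ∀ a, t (t a) = a) (a : V) :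
    t (vadd a (t a)) = vadd a (t a) := by
  rw [ht.1, hi, vadd_comm]

theorem invol_perp {t : Equiv.Perm V} (ht : t ∈ isom) (hi : ∀ a, t (t a) = a) (a : V) {f : V}
    (hf : t f = f) : herm f (vadd a (t a)) = 0 := by
  have e : herm f (t a) = herm f a := by conv_lhs => rw [← hf, isom_herm ht]
  rw [herm_vadd_right, e]
  exact Nat.xor_self _

/-- A singular nonzero vector is moved to the first point. -/
theorem move_first {v : V} (hq : qv v = false) (hv : v ≠ 0) :
    ∃ g ∈ uGroup, g v = v0 :=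
  ⟨_, wPerm_mem (wordOf v), by
    rw [wPerm_apply]
    exact ((word_ok v).resolve_left (by rw [hq]; simp)).resolve_left hv⟩

/-- An isometry fixing the perpendicular of the first point is trivial or the transvection. -/
theorem perp_fix {r : Equiv.Perm V} (hr : r ∈ isom) (h : ∀ v, herm v0 v = 0 → r v = v) :
    r = 1 ∨ r = tv 0 := by
  have key : ∀ r' : Equiv.Perm V, r' ∈ isom → (∀ v, herm v0 v = 0 → r' v = v) → r' 16 = r 16 →
      r' = r := by
    intro r' hr' h' e
    refine Equiv.ext fun v => ?_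
    obtain ⟨hp, hs⟩ := H55.U6C.split_v0 v
    rw [hs, hr'.1, hr.1, h' _ hp, h _ hp, isom_smul hr' (herm_lt _ _), isom_smul hr (herm_lt _ _), e]
  have h16 : r 16 = 16 ∨ r 16 = tvFun 0 16 := by
    refine perp_image _ (by rw [hr.2.2]; decide +kernel) fun v hv => ?_
    conv_lhs => rw [← h v hv, isom_herm hr]
  rcases h16 with e | e
  · exact Or.inl (key 1 (one_mem _) (fun _ _ => rfl) e.symm).symm
  · refine Or.inr (key (tv 0) (tv_mem_isom 0) (fun v hv => ?_) e.symm).symm
    rw [tv_apply, pnt_zero, hv, smul4_zero_left, vadd_zero']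

/-- An isometry fixing the base line pointwise is one of the sixteen maps. -/
theorem line_fix {r : Equiv.Perm V} (hr : r ∈ isom) (h1 : r v0 = v0) (h2 : r u₀ = u₀) :
    ∃ k, ∀ a, r a = mFun k a := by
  have hh : ∀ f, r f = f → ∀ x, herm f (r x) = herm f x := fun f hf x => by
    conv_lhs => rw [← hf, isom_herm hr]
  obtain ⟨k, hk1, hk2⟩ := line_image (r 16)
    ⟨by rw [hr.2.2]; decide +kernel, hh _ h1 _, hh _ h2 _⟩ (r 1)
    ⟨by rw [hr.2.2]; decide +kernel, hh _ h1 _, hh _ h2 _⟩ (isom_herm hr _ _)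
  refine ⟨k, fun a => ?_⟩
  obtain ⟨s, t, e1, e2⟩ := line_basis a
  rw [e2 k, hk1, hk2]
  conv_lhs => rw [e1]
  rw [hr.1, hr.1, hr.1, isom_smul hr s.isLt, isom_smul hr t.isLt, isom_smul hr (herm_lt _ _),
    isom_smul hr (herm_lt _ _), h1, h2]

/-- The product of two of the maps. -/
theorem mFun_mul {r s : Equiv.Perm V} (hr : r ∈ isom) (hs : s ∈ isom) {k l : Fin 16}
    (hk : ∀ a, r a = mFun k a) (hl : ∀ a, s a = mFun l a) :
    ∀ a, (r * s) a = mFun (kAdd k l) a := by
  intro a
  have hfix : ∀ j, mFun j v0 = v0 ∧ mFun j u₀ = u₀ := by decide +kernel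
  have hrs := mul_mem hr hs
  obtain ⟨j, hj⟩ := line_fix hrs
    (by rw [Equiv.Perm.mul_apply, hl, (hfix l).1, hk, (hfix k).1])
    (by rw [Equiv.Perm.mul_apply, hl, (hfix l).2, hk, (hfix k).2])
  obtain ⟨s1, t1, e1, e2⟩ := line_basis a
  rw [hj, e2 j, e2 (kAdd k l), ← (mFun_comp k l).1, ← (mFun_comp k l).2, ← hj, ← hj,
    Equiv.Perm.mul_apply, Equiv.Perm.mul_apply, hk, hl, hk, hl]

/-- Normal form of a linear involution. -/
theorem normal_form {t : Equiv.Perm V} (ht : t ∈ isom) (hi : ∀ a, t (t a) = a) (hne : t ≠ 1) :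
    ∃ g ∈ uGroup, g * t * g⁻¹ = tv 0 ∨ ∃ k, rk2 k = true ∧ ∀ a, (g * t * g⁻¹) a = mFun k a := by
  obtain ⟨b, hb⟩ : ∃ b, t b ≠ b := by
    by_contra hno
    push Not at hno
    exact hne (Equiv.ext hno)
  obtain ⟨g, hg, hgv⟩ := move_first (qv_invol ht hi b) fun e => hb (eq_of_vadd_eq_zero e).symm
  set r := g * t * g⁻¹ with hr
  have hgi := uGroup_le_isom hg
  have hri : r ∈ isom := mul_mem (mul_mem hgi ht) (inv_mem hgi)
  have hr2 : ∀ a, r (r a) = a := fun a => by simp [hr, hi]
  have hd : vadd (g b) (r (g b)) = v0 := by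
    rw [← hgv, hgi.1]
    simp [hr]
  have hv0 : r v0 = v0 := hd ▸ invol_fix hri hr2 _
  by_cases hall : ∀ a, ∃ c : Fin 4, vadd a (r a) = smul4 c v0
  · refine ⟨g, hg, Or.inl ((perp_fix hri fun v hv => ?_).resolve_left fun e => ?_)⟩
    · obtain ⟨c, hc⟩ := hall v
      have hrv : r v = vadd v (smul4 c v0) := by rw [← hc, ← vadd_assoc, vadd_self, zero_vadd]
      obtain ⟨x, hx⟩ := hall 16
      have hrb : r 16 = vadd 16 (smul4 x v0) := by rw [← hx, ← vadd_assoc, vadd_self, zero_vadd]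
      -- commutators of perpendicular vectors are orthogonal to the complementary vector
      have h1 : herm (r 16) (r v) = herm 16 v := isom_herm hri _ _
      rw [hrv, hrb, herm_vadd_left, herm_vadd_right, herm_vadd_right, herm_smul_left x.isLt,
        herm_smul_left x.isLt, hv, herm_smul_right c.isLt, herm_smul_right c.isLt,
        show herm v0 v0 = 0 by decide +kernel, show herm (16 : V) v0 = 1 by decide +kernel] at h1
      have hc0 : c = 0 := (show ∀ p < 4, ∀ c x : Fin 4, Nat.xor (Nat.xor p (fmul c 1))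
          (Nat.xor (fmul (fconj x) 0) (fmul (fconj x) (fmul c 0))) = p → c = 0 by decide +kernel)
        _ (herm_lt _ _) c x h1
      rw [hrv, hc0]
      show vadd v (smul4 0 v0) = v
      rw [smul4_zero_left, vadd_zero']
    · rw [e] at hd
      exact H55.U6C.v0_facts.2.2.1 (by rw [← hd]; exact vadd_self _)
  push Not at hall
  obtain ⟨a, ha⟩ := hall
  have hperp := invol_perp hri hr2 a hv0
  rcases word2_ok _ hperp (qv_invol hri hr2 a) with ⟨c, hc⟩ | ⟨⟨c, hc0, hc⟩, d, hd0, hde⟩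
  · exact absurd hc (ha c)
  set h := wPerm (word2 (vadd a (r a))) with hh
  have hhi := wPerm_isom (word2 (vadd a (r a)))
  set s := h * r * h⁻¹ with hs
  have hsi : s ∈ isom := mul_mem (mul_mem hhi hri) (inv_mem hhi)
  have hsmul : ∀ (e : Fin 4), e.val ≠ 0 → ∀ v w : V, h w = smul4 e v → r w = w → s v = v := by
    intro e he v w hw hrw
    have h1 : s (smul4 e v) = smul4 e v := by rw [← hw]; simp [hs, hrw]
    obtain ⟨d', hd', hdd⟩ := (show ∀ e : Fin 4, e.val ≠ 0 → ∃ d < 4, fmul d e.val = 1 by decide) e he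
    have h2 := isom_smul hsi hd' (smul4 e v)
    rwa [h1, smul4_smul4 hd' e.isLt, hdd, smul4_one] at h2
  have hsv : s v0 = v0 := hsmul c hc0 _ v0 (by rw [hh, wPerm_apply, hc]) hv0
  have hsu : s u₀ = u₀ := hsmul d hd0 _ _ (by rw [hh, wPerm_apply, hde]) (invol_fix hri hr2 a)
  obtain ⟨k, hk⟩ := line_fix hsi hsv hsu
  refine ⟨h * g, mul_mem (wPerm_mem _) hg, Or.inr ⟨k, ?_, fun x => ?_⟩⟩
  · refine mFun_rk2 k ?_ ?_
    · obtain ⟨c', hc', hcc⟩ := (show ∀ e : Fin 4, e.val ≠ 0 → ∃ d < 4, fmul d e.val = 1 by decide)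
        c hc0
      refine ⟨smul4 c' (h (g b)), ?_⟩
      rw [← hk, isom_smul hsi hc', ← smul4_vadd hc',
        show vadd (h (g b)) (s (h (g b))) = h (vadd (g b) (r (g b))) by rw [hhi.1]; simp [hs]; rfl,
        hd, hh, wPerm_apply, hc, smul4_smul4 hc' c.isLt, hcc, smul4_one]
    · obtain ⟨d', hd', hdd⟩ := (show ∀ e : Fin 4, e.val ≠ 0 → ∃ d < 4, fmul d e.val = 1 by decide)
        d hd0
      refine ⟨smul4 d' (h a), ?_⟩
      rw [← hk, isom_smul hsi hd', ← smul4_vadd hd',
        show vadd (h a) (s (h a)) = h (vadd a (r a)) by rw [hhi.1]; simp [hs]; rfl,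
        hh, wPerm_apply, hde, smul4_smul4 hd' d.isLt, hdd, smul4_one]
  · rw [← hk, show h * g * t * (h * g)⁻¹ = s by rw [hs, hr]; group]

end H55.Fi22C
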