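import Cfsg.Agent.H38.U6C.Basic

/-!
Words in the transvections: moving the second point of a line, and elements of order three
centralising the involutions fixing the base line.
-/

set_option autoImplicit false

namespace H55.Fi22C

/-- Words moving a singular vector orthogonal to the first point to the second one. -/
def secondList : List (List (Fin 45)) :=
  [[], [], [], [], [], [],
   [25], [35], [], [35], [], [25],
   [], [25], [35], [], [], [],
   [], [], [], [], [], [],
   [], [], [], [], [], [],
   [], [], [], [], [], [],
   [], [], [], [], [], [],
   [], [], [], [], [], [],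
   [], [], [], [], [], [],
   [], [], [], [], [], [],
   [], [], [], [], [], [],
   [], [], [], [], [], [],
   [], [], [], [], [], [],
   [], [], [], [], [], [],
   [], [34, 25], [26], [36], [], [44],
   [30, 25], [34], [], [30], [40], [26, 25],
   [], [], [], [], [], [],
   [], [], [], [], [], [],
   [], [], [], [], [], [],
   [], [], [], [], [], [],
   [], [], [], [], [], [],
   [], [], [], [], [], [],
   [], [], [], [], [], [],
   [], [], [], [], [], [],
   [], [], [], [], [], [],
   [], [], [], [], [], [],
   [], [], [], [], [], [],
   [], [], [], [26, 25], [30], [40],
   [], [36], [34, 25], [26], [], [34],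
   [44], [30, 25], [], [], [], [],
   [], [], [], [], [], [],
   [], [], [], [], [], [],
   [], [], [], [], [], [],
   [], [], [], [], [], [],
   [], [], [], [], [], [],
   [], [], [], [], [], [],
   [], [], [], [], [], [],
   [], [], [], [], [], [],
   [], [], [], [], [], [],
   [], [], [], [], [], [],
   [], [], [], [], [], [30, 25],
   [34], [44], [], [40], [26, 25], [30],
   [], [26], [36], [34, 25]]

/-- Words of elements of order three. -/
def thetaList : List (List (Fin 45)) :=
  [[], [], [], [1, 3, 4, 25], [1, 3, 12, 34], [1, 5, 27, 33],
   [1, 3, 4, 30], [], [1, 4, 13, 26], [1, 3, 28, 34], [1, 3, 4, 34], [],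
   [1, 3, 13, 17], [1, 4, 26, 32], [1, 3, 4, 26], []]

end H55.Fi22C
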